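import Cfsg.Agent.Lib.ONOut.Defs

/-! Evaluated checks: the centraliser of `yW`. -/

namespace Cfsg.Agent.Lib.ONOut

open Cfsg.Agent.Lib.CosetTable

set_option maxRecDepth 20000
set_option Elab.async false

theorem allY_0 : allY (fixY.getD 0 (0, [])) = true := by decide +kernel

theorem allY_1 : allY (fixY.getD 1 (0, [])) = true := by decide +kernel

theorem allY_2 : allY (fixY.getD 2 (0, [])) = true := by decide +kernel

theorem allY_3 : allY (fixY.getD 3 (0, [])) = true := by decide +kernel

theorem allY_4 : allY (fixY.getD 4 (0, [])) = true := by decide +kernel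

theorem allY_5 : allY (fixY.getD 5 (0, [])) = true := by decide +kernel

theorem allY_6 : allY (fixY.getD 6 (0, [])) = true := by decide +kernel

theorem allY_7 : allY (fixY.getD 7 (0, [])) = true := by decide +kernel

theorem allY_8 : allY (fixY.getD 8 (0, [])) = true := by decide +kernel

end Cfsg.Agent.Lib.ONOut
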