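import Cfsg.Agent.Lib.ONOut.Defs

/-! Evaluated checks: `posX`, part 2. -/

namespace Cfsg.Agent.Lib.ONOut

open Cfsg.Agent.Lib.CosetTable

set_option maxRecDepth 20000
set_option Elab.async false

theorem posX_run9 : rangeAll posX 1024 8192 = true := by decide +kernel

theorem posX_run10 : rangeAll posX 1024 9216 = true := by decide +kernel

theorem posX_run11 : rangeAll posX 1024 10240 = true := by decide +kernel

theorem posX_run12 : rangeAll posX 1024 11264 = true := by decide +kernel

theorem posX_run13 : rangeAll posX 1024 12288 = true := by decide +kernel

theorem posX_run14 : rangeAll posX 1024 13312 = true := by decide +kernel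

theorem posX_run15 : rangeAll posX 1024 14336 = true := by decide +kernel

theorem posX_run16 : rangeAll posX 1024 15360 = true := by decide +kernel

end Cfsg.Agent.Lib.ONOut
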