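import Cfsg.Agent.Lib.ONOut.Defs

/-! Evaluated checks: `posX`, part 3. -/

namespace Cfsg.Agent.Lib.ONOut

open Cfsg.Agent.Lib.CosetTable

set_option maxRecDepth 20000
set_option Elab.async false

theorem posX_run17 : rangeAll posX 1024 16384 = true := by decide +kernel

theorem posX_run18 : rangeAll posX 1024 17408 = true := by decide +kernel

theorem posX_run19 : rangeAll posX 1024 18432 = true := by decide +kernel

theorem posX_run20 : rangeAll posX 1024 19456 = true := by decide +kernel

theorem posX_run21 : rangeAll posX 1024 20480 = true := by decide +kernel

theorem posX_run22 : rangeAll posX 1024 21504 = true := by decide +kernel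

theorem posX_run23 : rangeAll posX 1024 22528 = true := by decide +kernel

theorem posX_run24 : rangeAll posX 1024 23552 = true := by decide +kernel

end Cfsg.Agent.Lib.ONOut
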