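import Cfsg.Agent.Lib.ONOut.Defs

/-! Evaluated checks: `posX`, part 4. -/

namespace Cfsg.Agent.Lib.ONOut

open Cfsg.Agent.Lib.CosetTable

set_option maxRecDepth 20000
set_option Elab.async false

theorem posX_run25 : rangeAll posX 1024 24576 = true := by decide +kernel

theorem posX_run26 : rangeAll posX 1024 25600 = true := by decide +kernel

theorem posX_run27 : rangeAll posX 1024 26624 = true := by decide +kernel

theorem posX_run28 : rangeAll posX 1024 27648 = true := by decide +kernel

theorem posX_run29 : rangeAll posX 1024 28672 = true := by decide +kernel

theorem posX_run30 : rangeAll posX 1024 29696 = true := by decide +kernel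

theorem posX_run31 : rangeAll posX 1024 30720 = true := by decide +kernel

theorem posX_run32 : rangeAll posX 1024 31744 = true := by decide +kernel

end Cfsg.Agent.Lib.ONOut
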