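import Cfsg.Agent.Lib.ONOut.Defs

/-! Evaluated checks: `posX`, part 5. -/

namespace Cfsg.Agent.Lib.ONOut

open Cfsg.Agent.Lib.CosetTable

set_option maxRecDepth 20000
set_option Elab.async false

theorem posX_run33 : rangeAll posX 1024 32768 = true := by decide +kernel

theorem posX_run34 : rangeAll posX 1024 33792 = true := by decide +kernel

theorem posX_run35 : rangeAll posX 1024 34816 = true := by decide +kernel

theorem posX_run36 : rangeAll posX 1024 35840 = true := by decide +kernel

theorem posX_run37 : rangeAll posX 1024 36864 = true := by decide +kernel

theorem posX_run38 : rangeAll posX 1024 37888 = true := by decide +kernel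

theorem posX_run39 : rangeAll posX 1024 38912 = true := by decide +kernel

theorem posX_run40 : rangeAll posX 1024 39936 = true := by decide +kernel

end Cfsg.Agent.Lib.ONOut
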