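import Cfsg.Agent.Lib.ONOut.Defs

/-! Evaluated checks: `posX`, part 6. -/

namespace Cfsg.Agent.Lib.ONOut

open Cfsg.Agent.Lib.CosetTable

set_option maxRecDepth 20000
set_option Elab.async false

theorem posX_run41 : rangeAll posX 1024 40960 = true := by decide +kernel

theorem posX_run42 : rangeAll posX 1024 41984 = true := by decide +kernel

theorem posX_run43 : rangeAll posX 1024 43008 = true := by decide +kernel

theorem posX_run44 : rangeAll posX 1024 44032 = true := by decide +kernel

theorem posX_run45 : rangeAll posX 1024 45056 = true := by decide +kernel

theorem posX_run46 : rangeAll posX 1024 46080 = true := by decide +kernel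

theorem posX_run47 : rangeAll posX 1024 47104 = true := by decide +kernel

theorem posX_run48 : rangeAll posX 1024 48128 = true := by decide +kernel

end Cfsg.Agent.Lib.ONOut
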