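import Cfsg.Agent.Lib.ONOut.Defs

/-! Evaluated checks: `posX`, part 7. -/

namespace Cfsg.Agent.Lib.ONOut

open Cfsg.Agent.Lib.CosetTable

set_option maxRecDepth 20000
set_option Elab.async false

theorem posX_run49 : rangeAll posX 1024 49152 = true := by decide +kernel

theorem posX_run50 : rangeAll posX 1024 50176 = true := by decide +kernel

theorem posX_run51 : rangeAll posX 1024 51200 = true := by decide +kernel

theorem posX_run52 : rangeAll posX 1024 52224 = true := by decide +kernel

theorem posX_run53 : rangeAll posX 1024 53248 = true := by decide +kernel

theorem posX_run54 : rangeAll posX 1024 54272 = true := by decide +kernel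

theorem posX_run55 : rangeAll posX 1024 55296 = true := by decide +kernel

theorem posX_run56 : rangeAll posX 1024 56320 = true := by decide +kernel

end Cfsg.Agent.Lib.ONOut
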