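import Cfsg.Agent.Lib.ONOut.Defs

/-! Evaluated checks: `posX`, part 8. -/

namespace Cfsg.Agent.Lib.ONOut

open Cfsg.Agent.Lib.CosetTable

set_option maxRecDepth 20000
set_option Elab.async false

theorem posX_run57 : rangeAll posX 1024 57344 = true := by decide +kernel

theorem posX_run58 : rangeAll posX 285 58368 = true := by decide +kernel

end Cfsg.Agent.Lib.ONOut
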