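import Cfsg.Agent.Lib.ONOut.PosX1
import Cfsg.Agent.Lib.ONOut.PosX2
import Cfsg.Agent.Lib.ONOut.PosX3
import Cfsg.Agent.Lib.ONOut.PosX4
import Cfsg.Agent.Lib.ONOut.PosX5
import Cfsg.Agent.Lib.ONOut.PosX6
import Cfsg.Agent.Lib.ONOut.PosX7
import Cfsg.Agent.Lib.ONOut.PosX8

/-! Assembly of the checks `posX`. -/

namespace Cfsg.Agent.Lib.ONOut

open Cfsg.Agent.Lib.CosetTable

set_option maxRecDepth 20000

theorem posX_all : Below posX 58653 :=
  (Below.step (Below.step (Below.step (Below.step (Below.step (Below.step (Below.step (Below.step (Below.step (Below.step (Below.step (Below.step (Below.step (Below.step (Below.step (Below.step (Below.step (Below.step (Below.step (Below.step (Below.step (Below.step (Below.step (Below.step (Below.step (Below.step (Below.step (Below.step (Below.step (Below.step (Below.step (Below.step (Below.step (Below.step (Below.step (Below.step (Below.step (Below.step (Below.step (Below.step (Below.step (Below.step (Below.step (Below.step (Below.step (Below.step (Below.step (Below.step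 (Below.step (Below.step (Below.step (Below.step (Below.step (Below.step (Below.step (Below.step (Below.step (Below.step (Below.zero _) posX_run1 (by rfl : 0 + 1024 = 1024)) posX_run2 (by rfl : 1024 + 1024 = 2048)) posX_run3 (by rfl : 2048 + 1024 = 3072)) posX_run4 (by rfl : 3072 + 1024 = 4096)) posX_run5 (by rfl : 4096 + 1024 = 5120)) posX_run6 (by rfl : 5120 + 1024 = 6144)) posX_run7 (by rfl : 6144 + 1024 = 7168)) posX_run8 (by rfl : 7168 + 1024 = 8192)) posX_run9 (by rfl : 8192 + 1024 = 9216)) posX_run10 (by rfl : 9216 + 1024 = 10240)) posX_run11 (by rfl : 10240 + 1024 = 11264)) posX_run12 (by rfl : 11264 + 1024 = 12288)) posX_run13 (by rfl : 12288 + 1024 = 13312)) posX_run14 (by rfl : 13312 + 1024 = 14336)) posX_run15 (by rfl : 14336 + 1024 = 15360)) posX_run16 (by rfl : 15360 + 1024 = 16384)) posX_run17 (by rfl : 16384 + 1024 = 17408)) posX_run18 (by rfl : 17408 + 1024 = 18432)) posX_run19 (by rfl : 18432 + 1024 = 19456)) posX_run20 (by rfl : 19456 + 1024 = 20480)) posX_run21 (by rfl : 20480 + 1024 = 21504))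 posX_run22 (by rfl : 21504 + 1024 = 22528)) posX_run23 (by rfl : 22528 + 1024 = 23552)) posX_run24 (by rfl : 23552 + 1024 = 24576)) posX_run25 (by rfl : 24576 + 1024 = 25600)) posX_run26 (by rfl : 25600 + 1024 = 26624)) posX_run27 (by rfl : 26624 + 1024 = 27648)) posX_run28 (by rfl : 27648 + 1024 = 28672)) posX_run29 (by rfl : 28672 + 1024 = 29696)) posX_run30 (by rfl : 29696 + 1024 = 30720)) posX_run31 (by rfl : 30720 + 1024 = 31744)) posX_run32 (by rfl : 31744 + 1024 = 32768)) posX_run33 (by rfl : 32768 + 1024 = 33792)) posX_run34 (by rfl : 33792 + 1024 = 34816)) posX_run35 (by rfl : 34816 + 1024 = 35840)) posX_run36 (by rfl : 35840 + 1024 = 36864)) posX_run37 (by rfl : 36864 + 1024 = 37888)) posX_run38 (by rfl : 37888 + 1024 = 38912)) posX_run39 (by rfl : 38912 + 1024 = 39936)) posX_run40 (by rfl : 39936 + 1024 = 40960)) posX_run41 (by rfl : 40960 + 1024 = 41984)) posX_run42 (by rfl : 41984 + 1024 = 43008)) posX_run43 (by rfl : 43008 + 1024 = 44032)) posX_run44 (by rfl : 44032 + 1024 = 45056)) posX_run45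 (by rfl : 45056 + 1024 = 46080)) posX_run46 (by rfl : 46080 + 1024 = 47104)) posX_run47 (by rfl : 47104 + 1024 = 48128)) posX_run48 (by rfl : 48128 + 1024 = 49152)) posX_run49 (by rfl : 49152 + 1024 = 50176)) posX_run50 (by rfl : 50176 + 1024 = 51200)) posX_run51 (by rfl : 51200 + 1024 = 52224)) posX_run52 (by rfl : 52224 + 1024 = 53248)) posX_run53 (by rfl : 53248 + 1024 = 54272)) posX_run54 (by rfl : 54272 + 1024 = 55296)) posX_run55 (by rfl : 55296 + 1024 = 56320)) posX_run56 (by rfl : 56320 + 1024 = 57344)) posX_run57 (by rfl : 57344 + 1024 = 58368)) posX_run58 (by rfl : 58368 + 285 = 58653))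

end Cfsg.Agent.Lib.ONOut
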