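import Cfsg.Agent.Lib.ONOut.ScanA1
import Cfsg.Agent.Lib.ONOut.ScanA2

/-! Assembly of the checks `scanA`. -/

namespace Cfsg.Agent.Lib.ONOut

open Cfsg.Agent.Lib.CosetTable

set_option maxRecDepth 20000

theorem scanA_all : Below scanA 122760 :=
  (Below.step (Below.step (Below.step (Below.step (Below.step (Below.step (Below.step (Below.step (Below.step (Below.step (Below.step (Below.step (Below.step (Below.step (Below.step (Below.step (Below.step (Below.step (Below.step (Below.step (Below.step (Below.step (Below.step (Below.step (Below.step (Below.step (Below.step (Below.step (Below.step (Below.step (Below.zero _) scanA_run1 (by rfl : 0 + 4096 = 4096)) scanA_run2 (by rfl : 4096 + 4096 = 8192)) scanA_run3 (by rfl : 8192 + 4096 = 12288)) scanA_run4 (by rfl : 12288 + 4096 = 16384)) scanA_run5 (by rfl : 16384 + 4096 = 20480)) scanA_run6 (by rfl : 20480 + 4096 = 24576)) scanA_run7 (by rfl : 24576 + 4096 = 28672)) scanA_run8 (by rfl : 28672 + 4096 = 32768)) scanA_run9 (by rfl : 32768 + 4096 = 36864)) scanA_run10 (by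 rfl : 36864 + 4096 = 40960)) scanA_run11 (by rfl : 40960 + 4096 = 45056)) scanA_run12 (by rfl : 45056 + 4096 = 49152)) scanA_run13 (by rfl : 49152 + 4096 = 53248)) scanA_run14 (by rfl : 53248 + 4096 = 57344)) scanA_run15 (by rfl : 57344 + 4096 = 61440)) scanA_run16 (by rfl : 61440 + 4096 = 65536)) scanA_run17 (by rfl : 65536 + 4096 = 69632)) scanA_run18 (by rfl : 69632 + 4096 = 73728)) scanA_run19 (by rfl : 73728 + 4096 = 77824)) scanA_run20 (by rfl : 77824 + 4096 = 81920)) scanA_run21 (by rfl : 81920 + 4096 = 86016)) scanA_run22 (by rfl : 86016 + 4096 = 90112)) scanA_run23 (by rfl : 90112 + 4096 = 94208)) scanA_run24 (by rfl : 94208 + 4096 = 98304)) scanA_run25 (by rfl : 98304 + 4096 = 102400)) scanA_run26 (by rfl : 102400 + 4096 = 106496)) scanA_run27 (by rfl : 106496 + 4096 = 110592)) scanA_run28 (by rfl : 110592 + 4096 = 114688)) scanA_run29 (by rfl : 114688 + 4096 = 118784)) scanA_run30 (by rfl : 118784 + 3976 = 122760))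

end Cfsg.Agent.Lib.ONOut
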