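import Cfsg.Agent.Lib.ONOut.Defs

/-! Evaluated checks: `scanX`, part 2. -/

namespace Cfsg.Agent.Lib.ONOut

open Cfsg.Agent.Lib.CosetTable

set_option maxRecDepth 20000
set_option Elab.async false

theorem scanX_run9 : rangeAll scanX 4096 32768 = true := by decide +kernel

theorem scanX_run10 : rangeAll scanX 4096 36864 = true := by decide +kernel

theorem scanX_run11 : rangeAll scanX 4096 40960 = true := by decide +kernel

theorem scanX_run12 : rangeAll scanX 4096 45056 = true := by decide +kernel

theorem scanX_run13 : rangeAll scanX 4096 49152 = true := by decide +kernel

theorem scanX_run14 : rangeAll scanX 4096 53248 = true := by decide +kernel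

theorem scanX_run15 : rangeAll scanX 4096 57344 = true := by decide +kernel

theorem scanX_run16 : rangeAll scanX 4096 61440 = true := by decide +kernel

end Cfsg.Agent.Lib.ONOut
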