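import Cfsg.Agent.Lib.ONOut.Defs

/-! Evaluated checks: `scanX`, part 3. -/

namespace Cfsg.Agent.Lib.ONOut

open Cfsg.Agent.Lib.CosetTable

set_option maxRecDepth 20000
set_option Elab.async false

theorem scanX_run17 : rangeAll scanX 4096 65536 = true := by decide +kernel

theorem scanX_run18 : rangeAll scanX 4096 69632 = true := by decide +kernel

theorem scanX_run19 : rangeAll scanX 4096 73728 = true := by decide +kernel

theorem scanX_run20 : rangeAll scanX 4096 77824 = true := by decide +kernel

theorem scanX_run21 : rangeAll scanX 4096 81920 = true := by decide +kernel

theorem scanX_run22 : rangeAll scanX 4096 86016 = true := by decide +kernel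

theorem scanX_run23 : rangeAll scanX 4096 90112 = true := by decide +kernel

theorem scanX_run24 : rangeAll scanX 4096 94208 = true := by decide +kernel

end Cfsg.Agent.Lib.ONOut
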