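import Cfsg.Agent.Lib.ONOut.Defs

/-! Evaluated checks: `scanX`, part 4. -/

namespace Cfsg.Agent.Lib.ONOut

open Cfsg.Agent.Lib.CosetTable

set_option maxRecDepth 20000
set_option Elab.async false

theorem scanX_run25 : rangeAll scanX 4096 98304 = true := by decide +kernel

theorem scanX_run26 : rangeAll scanX 4096 102400 = true := by decide +kernel

theorem scanX_run27 : rangeAll scanX 4096 106496 = true := by decide +kernel

theorem scanX_run28 : rangeAll scanX 4096 110592 = true := by decide +kernel

theorem scanX_run29 : rangeAll scanX 4096 114688 = true := by decide +kernel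

theorem scanX_run30 : rangeAll scanX 3976 118784 = true := by decide +kernel

end Cfsg.Agent.Lib.ONOut
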