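import Cfsg.Agent.Lib.ONOut.Defs

/-! Small evaluated checks. -/

namespace Cfsg.Agent.Lib.ONOut

open Cfsg.Agent.Lib.CosetTable

set_option maxRecDepth 20000
set_option Elab.async false

theorem words_ok7 :
    allL ok7 ([xW, yW, zW, zW2, gW] ++ centY ++ stab2) = true := by decide +kernel

theorem x_order : sameB (List.replicate 19 xW).flatten [] = true := by decide +kernel

theorem x_ne : sameB xW [] = false := by decide +kernel

theorem x_rev : sameB xW.reverse (List.replicate 18 xW).flatten = true := by decide +kernel

theorem y_conj : sameB (yW.reverse ++ (xW ++ yW)) (List.replicate 8 xW).flatten = true := by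
  decide +kernel

theorem y_fix : mv yW 0 = 0 ∧ mv (yW ++ (yW ++ yW)) 1 = 1 := by
  constructor <;> decide +kernel

theorem g_conj : sameB (gW.reverse ++ ([0] ++ gW)) (yW ++ (yW ++ yW)) = true := by decide +kernel

theorem fixY_all :
    allL (fun q => iteB (Nat.beq (mv yW q) q) (memL (fixY.map Prod.fst) q) true) fixT = true := by
  decide +kernel

theorem z_ne : sameB zW zW2 = false := by decide +kernel

theorem z_comm : sameB (yW ++ zW) (zW ++ yW) = true := by decide +kernel

theorem stab_ok : rangeAll stabOK 64 0 = true := by decide +kernel

theorem gens_ok : rangeAll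
    (fun a => sameB (subW 1 zW (genK.getD a ([], 0)).1 (genK.getD a ([], 0)).2) [a]) 7 0 = true := by
  decide +kernel

theorem tests_ok : allL (fun t => sameB (List.replicate t.2 (subW 1 zW t.1 0)).flatten []) tests = true := by
  decide +kernel

theorem img_invol : rangeAll (fun a => sameB (img a ++ img a) []) 7 0 = true := by decide +kernel

theorem img_rels :
    allL (fun w => sameB (w.reverse.flatMap img) []) ONPres.relW = true := by decide +kernel

theorem img_x : sameB (xW.flatMap img) xW = true := by decide +kernel

theorem img_y : sameB (yW.flatMap img) yW = true := by decide +kernel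

theorem img_z : sameB (zW.flatMap img) zW2 = true := by decide +kernel

end Cfsg.Agent.Lib.ONOut
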