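import Cfsg.Agent.Lib.CosetTable.ON122760.Data
import Cfsg.Agent.Lib.CosetTable.ONSimple.Data
import Cfsg.Agent.Lib.CosetTable.Big.Lower
import Cfsg.Agent.Lib.CosetTable.ONPres.Rels
import Cfsg.Agent.Lib.ONOut.Data

/-!
The evaluated checks behind the outer automorphism group of O'Nan's group.
-/

namespace Cfsg.Agent.Lib.ONOut

open Cfsg.Agent.Lib.CosetTable

/-- follow a word in the table -/
noncomputable def mv (w : List ℕ) (i : ℕ) : ℕ := ON122760.tab.walk w i

/-- the base -/
def base3 : List ℕ := [0, 1, 36508]

/-- two words agree on the base -/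
noncomputable def sameB (v w : List ℕ) : Bool :=
  allL (fun i => Nat.beq (mv v i) (mv w i)) base3

/-- a word only uses the seven generators -/
noncomputable def ok7 (w : List ℕ) : Bool := allL (fun a => Nat.blt a 7) w

/-- membership in a list of numbers -/
noncomputable def memL (l : List ℕ) (q : ℕ) : Bool :=
  List.rec (motive := fun _ => Bool) false (fun h _ ih => iteB (Nat.beq h q) true ih) l

/-- some element of the list satisfies the test -/
noncomputable def anyL {α : Type} (p : α → Bool) (l : List α) : Bool :=
  List.rec (motive := fun _ => Bool) false (fun h _ ih => iteB (p h) true ih) l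

/-- `k`-th power of `xW`, with `0 ≤ k < 19` -/
def xPow (k : ℕ) : List ℕ :=
  if k % 19 ≤ 9 then (List.replicate (k % 19) xW).flatten
  else (List.replicate (19 - k % 19) xW.reverse).flatten

/-- a word in `x^i` and `c` -/
def subW (i : ℕ) (c : List ℕ) (K : List ℕ) (e : ℕ) : List ℕ :=
  (K.flatMap fun k => xPow (k * i) ++ c) ++ xPow (e * i)

/-- word of a path in an orbit certificate -/
noncomputable def pth (O : Big.Orb) (ws : List (List ℕ)) : ℕ → ℕ → List ℕ :=
  Nat.rec (motive := fun _ => ℕ → List ℕ) (fun _ => [])
    fun _ ih p => iteB (Nat.beq p 0) [] (ih (O.pP p) ++ ws.getD (O.pW p) [])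

/-- word reaching the point of position `p` in the suborbit -/
noncomputable def path2 (p : ℕ) : List ℕ := pth ONSimple.lev2 ONSimple.ws2 64 p

/-- power of `xW` recorded at position `p` -/
noncomputable def kk (p : ℕ) : ℕ := Nat.land (Nat.shiftRight kData (Nat.mul p 5)) 31

/-- the test at an orbit representative -/
noncomputable def siftX (p q i : ℕ) : Bool :=
  force (mv (path2 p).reverse (mv (xPow i) q)) fun t =>
    allL (fun s => iteB (Nat.beq (mv s (mv xW 1)) t)
      (iteB (sameB (xW ++ (s ++ path2 p)) (s ++ path2 p ++ xPow i))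
        (andB (Nat.beq i 1) (sameB (s ++ path2 p) [])) true) true) stab2

/-- the test at position `p` -/
noncomputable def posX (p : ℕ) : Bool :=
  force (ONSimple.lev2.get p) fun q =>
    iteB (Nat.beq (kk p) 0)
      (andB (andB (Nat.beq (mv (path2 p) 0) 0) (andB (Nat.beq (mv (path2 p) 1) q) (ok7 (path2 p))))
        (allL (siftX p q) [1, 2, 4]))
      (force (mv xW q) fun q' =>
        andB (ONSimple.lev2.mem q') (Nat.beq (Nat.succ (kk (ONSimple.lev2.idx q'))) (kk p)))

/-- only 0 is fixed by `xW` -/
noncomputable def scanX (i : ℕ) : Bool :=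
  iteB (Nat.beq (mv xW i) i) (Nat.beq i 0) true

/-- the points fixed by the first generator are listed -/
noncomputable def scanA (i : ℕ) : Bool :=
  iteB (Nat.beq (ON122760.tab.act 0 i) i) (memL fixA i) true

/-- the points fixed by the third power of `yW` -/
noncomputable def fixT : List ℕ := fixA.map (mv gW)

/-- the test at a pair of images of the first two base points -/
noncomputable def pairY (p : ℕ × List ℕ) (q : ℕ) : Bool :=
  force (mv p.2.reverse q) fun k =>
    iteB (ONSimple.lev2.mem k)
      (andB (andB (Nat.beq (mv (path2 (ONSimple.lev2.idx k)) 0) 0)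
            (andB (Nat.beq (mv (path2 (ONSimple.lev2.idx k)) 1) k)
              (ok7 (path2 (ONSimple.lev2.idx k)))))
          (force (mv (path2 (ONSimple.lev2.idx k)).reverse (mv p.2.reverse (mv yW q))) fun t =>
            allL (fun s => iteB (Nat.beq (mv s (mv yW 1)) t)
              (iteB (sameB (yW ++ (s ++ path2 (ONSimple.lev2.idx k) ++ p.2))
                  (s ++ path2 (ONSimple.lev2.idx k) ++ p.2 ++ yW))
                (anyL (fun c => sameB (s ++ path2 (ONSimple.lev2.idx k) ++ p.2) c) centY) true)
              true) stab2))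
      true

/-- all tests for the centraliser of `yW` at one fixed point -/
noncomputable def allY (p : ℕ × List ℕ) : Bool :=
  andB (andB (Nat.beq (mv p.2 0) p.1) (ok7 p.2)) (allL (pairY p) fixT)

/-- the suborbit stabiliser words are right -/
noncomputable def stabOK (r : ℕ) : Bool :=
  andB (andB (Nat.beq (mv (stab2.getD r []) 0) 0) (Nat.beq (mv (stab2.getD r []) 1) 1))
    (andB (Nat.beq (mv (stab2.getD r []) 36508) (ONSimple.lev3.get r)) (ok7 (stab2.getD r [])))

/-- the relation `n` fails for the image `c` of `zW` with exponent `i` -/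
noncomputable def failsOK (i : ℕ) (c : List ℕ) (n : ℕ) : Bool :=
  iteB (Nat.beq n 0)
    (andB (Nat.beq i 1) (iteB (sameB c zW) true (sameB c zW2)))
    (force (tests.getD (n - 1) ([], 0)).2 fun m =>
      iteB (sameB (List.replicate m (subW i c (tests.getD (n - 1) ([], 0)).1 0)).flatten []) false true)

/-- exclusion of the candidates with exponent `i`, for the given relation numbers -/
noncomputable def failsFrom (i : ℕ) : List (List ℕ) → List ℕ → Bool :=
  fun l => List.rec (motive := fun _ => List ℕ → Bool) (fun _ => true)
    (fun c _ ih e => List.rec (motive := fun _ => Bool) false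
      (fun n e' _ => andB (failsOK i c n) (ih e')) e) l

/-- images of the seven generators under the outer automorphism -/
def img (a : ℕ) : List ℕ := subW 1 zW2 (genK.getD a ([], 0)).1 (genK.getD a ([], 0)).2

end Cfsg.Agent.Lib.ONOut
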