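import Mathlib
import Cfsg.Agent.Lib.CosetTable.ONPres.Order
import Cfsg.Agent.Lib.CosetTable.Big.Base
import Cfsg.Agent.Lib.CosetTable.ONSimple.OK
import Cfsg.Agent.Lib.ONOut.Defs

/-!
O'Nan's group as a group of permutations of `122760` numbers, determined by three of them.
-/

namespace Cfsg.Agent.Lib.ONOut

open Cfsg.Agent.Lib.CosetTable

/-- value of a word -/
noncomputable abbrev ev (w : List ℕ) : Cfsg.Spor.ON := eval ONPres.gn w

/-- the action -/
noncomputable def act : Cfsg.Spor.ON →* Equiv.Perm (Fin ON122760.tab.n) :=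
  Classical.choose ONPres.exists_action

theorem act_gn : ∀ g, g < ON122760.cert.k → act (ONPres.gn g) = ON122760.checked.perm g :=
  Classical.choose_spec ONPres.exists_action

theorem tab_n : ON122760.tab.n = 122760 := rfl

theorem cert_k : ON122760.cert.k = 7 := rfl

theorem finite_ON : Finite Cfsg.Spor.ON := ONPres.order_le.1

theorem card_ON : Nat.card Cfsg.Spor.ON = 460815505920 :=
  (ON122760.checked.natCard_eq ONPres.model_top act act_gn ONPres.order_le ONSimple.levels
    ONSimple.levels_ok ONSimple.levels_card).1

theorem act_injective : Function.Injective act :=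
  (ON122760.checked.natCard_eq ONPres.model_top act act_gn ONPres.order_le ONSimple.levels
    ONSimple.levels_ok ONSimple.levels_card).2

theorem ok7_iff {w : List ℕ} : ok7 w = true ↔ ∀ a ∈ w, a < 7 := by
  induction w with
  | nil => simp [ok7, allL]
  | cons a w ih =>
    change andB (Nat.blt a 7) (ok7 w) = true ↔ _
    rw [andB_eq, Bool.and_eq_true, ih, blt_iff]
    simp

theorem ok7_append {v w : List ℕ} (hv : ok7 v = true) (hw : ok7 w = true) :
    ok7 (v ++ w) = true := by
  rw [ok7_iff] at *
  intro a ha
  rcases List.mem_append.mp ha with h | h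
  · exact hv a h
  · exact hw a h

theorem ok7_reverse {v : List ℕ} (hv : ok7 v = true) : ok7 v.reverse = true := by
  rw [ok7_iff] at *
  intro a ha
  exact hv a (List.mem_reverse.mp ha)

theorem ev_append (v w : List ℕ) : ev (v ++ w) = ev w * ev v := eval_append _ v w

theorem ev_nil : ev [] = 1 := rfl

theorem ev_reverse {v : List ℕ} (hv : ok7 v = true) : ev v.reverse = (ev v)⁻¹ :=
  eval_reverse _ v fun a ha => ONPres.gn_sq a (ok7_iff.mp hv a ha)

/-- the action on numbers -/
noncomputable def app (g : Cfsg.Spor.ON) (i : ℕ) : ℕ :=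
  if h : i < ON122760.tab.n then (act g ⟨i, h⟩ : Fin ON122760.tab.n) else i

theorem app_lt (g : Cfsg.Spor.ON) {i : ℕ} (hi : i < 122760) : app g i < 122760 := by
  rw [app, dif_pos (tab_n.symm ▸ hi)]
  exact lt_of_lt_of_eq (Fin.is_lt _) tab_n

theorem app_one (i : ℕ) : app 1 i = i := by
  rw [app]
  split
  · simp
  · rfl

theorem app_mul (g h : Cfsg.Spor.ON) (i : ℕ) : app (g * h) i = app g (app h i) := by
  by_cases hi : i < ON122760.tab.n
  · simp only [app, dif_pos hi, map_mul, Equiv.Perm.mul_apply, Fin.is_lt, ↓reduceDIte, Fin.eta]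
  · simp only [app, dif_neg hi]

theorem app_inv_app (g : Cfsg.Spor.ON) (i : ℕ) : app g⁻¹ (app g i) = i := by
  rw [← app_mul, inv_mul_cancel, app_one]

theorem app_inv_eq {g : Cfsg.Spor.ON} {i j : ℕ} (h : app g i = j) : app g⁻¹ j = i := by
  rw [← h, app_inv_app]

theorem app_injective (g : Cfsg.Spor.ON) : Function.Injective (app g) := fun i j h => by
  rw [← app_inv_app g i, h, app_inv_app]

theorem app_ev {w : List ℕ} (hw : ok7 w = true) {i : ℕ} (hi : i < 122760) :
    app (ev w) i = mv w i := by
  have hl : ∀ a ∈ w, a < ON122760.cert.k := fun a ha => by rw [cert_k]; exact ok7_iff.mp hw a ha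
  rw [app, dif_pos (tab_n.symm ▸ hi), Big.Checked.map_eval ON122760.checked ONPres.model_top act
    act_gn hl, ON122760.checked.eval_perm hl]
  rfl

theorem lev1_zero : ONSimple.lev1.get 0 = 0 := by decide +kernel

theorem lev2_zero : ONSimple.lev2.get 0 = 1 := by decide +kernel

theorem lev3_zero : ONSimple.lev3.get 0 = 36508 := by decide +kernel

/-- three numbers determine an element -/
theorem eq_one_of_base {g : Cfsg.Spor.ON} (h0 : app g 0 = 0) (h1 : app g 1 = 1)
    (h2 : app g 36508 = 36508) : g = 1 := by
  haveI := finite_ON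
  have hlt := ONSimple.levels_ok.words_lt
  have h := Big.levelsCard_mul_le ON122760.checked ONSimple.levels ONSimple.levels_ok act.range
    fun v hv => ⟨eval ONPres.gn v, Big.Checked.map_eval ON122760.checked ONPres.model_top act
      act_gn (hlt v hv)⟩
  rw [ONSimple.levels_card] at h
  have hr : Nat.card act.range ≤ 460815505920 :=
    (Nat.card_le_card_of_surjective _ act.rangeRestrict_surjective).trans ONPres.order_le.2
  have hle : Nat.card (Big.fixBase act.range ONSimple.levels) ≤ 1 :=
    Nat.le_of_mul_le_mul_left (by rw [mul_one]; exact h.trans hr) (by norm_num)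
  have key : ∀ (q : ℕ), app g q = q → ∀ i : Fin ON122760.tab.n, (i : ℕ) = q → act g i = i := by
    rintro q hq i rfl
    rw [app, dif_pos i.2] at hq
    exact Fin.ext hq
  have hmem : ∀ L : List (Big.Orb × List (List ℕ)),
      (∀ p ∈ L, app g (p.1.get 0) = p.1.get 0) → act g ∈ Big.fixBase act.range L := by
    intro L
    induction L with
    | nil => intro _; exact ⟨g, rfl⟩
    | cons p L ih =>
      intro hp
      exact ⟨ih fun r hr => hp r (List.mem_cons_of_mem _ hr),
        fun i hi => key _ (hp p List.mem_cons_self) i hi⟩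
  have hone : ∀ L : List (Big.Orb × List (List ℕ)),
      (1 : Equiv.Perm (Fin ON122760.tab.n)) ∈ Big.fixBase act.range L := by
    intro L
    induction L with
    | nil => exact act.range.one_mem
    | cons p L ih => exact ⟨ih, fun i _ => rfl⟩
  have hm : act g ∈ Big.fixBase act.range ONSimple.levels := hmem _ (by
    intro p hp
    simp only [ONSimple.levels, List.mem_cons, List.not_mem_nil, or_false] at hp
    rcases hp with rfl | rfl | rfl
    · rw [lev1_zero]; exact h0
    · rw [lev2_zero]; exact h1
    · rw [lev3_zero]; exact h2)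
  have := Finite.card_le_one_iff_subsingleton.mp hle
  refine act_injective ?_
  rw [map_one]
  exact congrArg Subtype.val (Subsingleton.elim
    (⟨_, hm⟩ : Big.fixBase act.range ONSimple.levels) ⟨1, hone _⟩)

theorem ev_eq_of_sameB {v w : List ℕ} (hv : ok7 v = true) (hw : ok7 w = true)
    (h : sameB v w = true) : ev v = ev w := by
  have key : ∀ i ∈ base3, app ((ev v)⁻¹ * ev w) i = i := by
    intro i hi
    have hi' : i < 122760 := by
      simp only [base3, List.mem_cons, List.not_mem_nil, or_false] at hi
      omega
    have e := beq_iff.mp (allL_spec h i hi)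
    rw [app_mul, app_ev hw hi', ← e, ← app_ev hv hi', app_inv_app]
  have := eq_one_of_base (key 0 (by simp [base3])) (key 1 (by simp [base3]))
    (key 36508 (by simp [base3]))
  exact inv_mul_eq_one.mp this

theorem sameB_of_ev_eq {v w : List ℕ} (hv : ok7 v = true) (hw : ok7 w = true)
    (h : ev v = ev w) : sameB v w = true := by
  have key : ∀ i ∈ base3, Nat.beq (mv v i) (mv w i) = true := by
    intro i hi
    have hi' : i < 122760 := by
      simp only [base3, List.mem_cons, List.not_mem_nil, or_false] at hi
      omega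
    rw [beq_iff, ← app_ev hv hi', ← app_ev hw hi', h]
  simp only [sameB, base3, allL, andB_eq, Bool.and_eq_true]
  exact ⟨key 0 (by simp [base3]), key 1 (by simp [base3]), key 36508 (by simp [base3]), trivial⟩

end Cfsg.Agent.Lib.ONOut
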