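import Mathlib
import Cfsg.Agent.Lib.ONOut.Group
import Cfsg.Agent.Lib.ONOut.Small

/-!
The stabilisers of the first base point and of the first two.
-/

namespace Cfsg.Agent.Lib.ONOut

open Cfsg.Agent.Lib.CosetTable

theorem lev2_m : ONSimple.lev2.m = 58653 := rfl

theorem lev2_reach {p : ℕ} (hp : p < 58653) :
    ONSimple.lev2.get p < 122760 ∧ ONSimple.lev2.idx (ONSimple.lev2.get p) = p ∧
      (p = 0 ∨ (ONSimple.lev2.pP p < p ∧ ONSimple.lev2.pW p < ONSimple.ws2.length ∧
        mv (ONSimple.ws2.getD (ONSimple.lev2.pW p) []) (ONSimple.lev2.get (ONSimple.lev2.pP p)) =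
          ONSimple.lev2.get p)) := by
  have h := ONSimple.lev2_ok p (hp.trans_eq lev2_m.symm)
  simp only [Big.Orb.reachOK, force_eq, andB_eq, iteB_eq, Bool.and_eq_true,
    Bool.cond_true_left, Bool.or_eq_true, beq_iff, blt_iff] at h
  exact ⟨lt_of_lt_of_eq h.1 tab_n, h.2.1, h.2.2⟩

theorem lev2_lt {p : ℕ} (hp : p < 58653) : ONSimple.lev2.get p < 122760 := (lev2_reach hp).1

theorem lev2_idx {p : ℕ} (hp : p < 58653) : ONSimple.lev2.idx (ONSimple.lev2.get p) = p :=
  (lev2_reach hp).2.1

theorem lev3_get_injective : ∀ r r' : Fin 64,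
    ONSimple.lev3.get r = ONSimple.lev3.get r' → r = r' := by
  have key : ∀ r, r < 64 → ONSimple.lev3.idx (ONSimple.lev3.get r) = r := by
    intro r hr
    have h := ONSimple.lev3_ok r (hr.trans_eq (rfl : ONSimple.lev3.m = 64).symm)
    simp only [Big.Orb.reachOK, force_eq, andB_eq, Bool.and_eq_true, beq_iff, blt_iff] at h
    exact h.2.1
  intro r r' h
  exact Fin.ext (by rw [← key r r.2, h, key r' r'.2])

/-- the stabiliser of the first base point -/
noncomputable def stabA : Subgroup Cfsg.Spor.ON where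
  carrier := {g | app g 0 = 0}
  mul_mem' {a b} ha hb := by
    change app (a * b) 0 = 0
    rw [app_mul, show app b 0 = 0 from hb]; exact ha
  one_mem' := app_one 0
  inv_mem' {a} ha := app_inv_eq ha

/-- the stabiliser of the first two base points -/
noncomputable def stabB : Subgroup Cfsg.Spor.ON where
  carrier := {g | app g 0 = 0 ∧ app g 1 = 1}
  mul_mem' {a b} ha hb := by
    change app (a * b) 0 = 0 ∧ app (a * b) 1 = 1
    rw [app_mul, app_mul, hb.1, hb.2]; exact ha
  one_mem' := ⟨app_one 0, app_one 1⟩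
  inv_mem' {a} ha := ⟨app_inv_eq ha.1, app_inv_eq ha.2⟩

theorem stab_word {r : ℕ} (hr : r < 64) :
    stab2.getD r [] ∈ stab2 ∧ ev (stab2.getD r []) ∈ stabB ∧
      app (ev (stab2.getD r [])) 36508 = ONSimple.lev3.get r := by
  have h := rangeAll_spec stab_ok r (Nat.zero_le _) (by omega)
  simp only [stabOK, andB_eq, Bool.and_eq_true, beq_iff] at h
  obtain ⟨⟨h0, h1⟩, h3, hok⟩ := h
  have hlen : stab2.length = 64 := rfl
  refine ⟨?_, ⟨?_, ?_⟩, ?_⟩
  · rw [List.getD_eq_getElem _ _ (by omega)]
    exact List.getElem_mem _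
  · rw [app_ev hok (by norm_num), h0]
  · rw [app_ev hok (by norm_num), h1]
  · rw [app_ev hok (by norm_num), h3]

theorem card_stabA : Nat.card stabA = 3753792 := by
  haveI := finite_ON
  let o : Cfsg.Spor.ON → Fin 122760 := fun g => ⟨app g 0, app_lt g (by norm_num)⟩
  let q : Cfsg.Spor.ON ⧸ stabA → Fin 122760 := fun c => Quotient.liftOn' c o (by
    intro a b hab
    rw [QuotientGroup.leftRel_apply] at hab
    have hab' : app (a⁻¹ * b) 0 = 0 := hab
    apply Fin.ext
    change app a 0 = app b 0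
    calc app a 0 = app a (app (a⁻¹ * b) 0) := by rw [hab']
      _ = app b 0 := by rw [← app_mul, mul_inv_cancel_left])
  have hq : Function.Bijective q := by
    constructor
    · intro c d
      induction c using QuotientGroup.induction_on with
      | _ a =>
        induction d using QuotientGroup.induction_on with
        | _ b =>
          intro hab
          have hab' : app a 0 = app b 0 := congrArg Fin.val hab
          rw [QuotientGroup.eq]
          change app (a⁻¹ * b) 0 = 0
          rw [app_mul, ← hab', app_inv_app]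
    · intro i
      obtain ⟨g, hg⟩ := Big.Checked.exists_map_zero ON122760.checked act act_gn
        (⟨i, lt_of_lt_of_eq i.2 tab_n.symm⟩ : Fin ON122760.tab.n)
      refine ⟨(g : Cfsg.Spor.ON ⧸ stabA), Fin.ext ?_⟩
      change app g 0 = i
      rw [app, dif_pos ON122760.checked.pos, hg]
  have h := Subgroup.card_eq_card_quotient_mul_card_subgroup stabA
  rw [Nat.card_congr (Equiv.ofBijective q hq), Nat.card_fin, card_ON] at h
  omega

theorem exists_stab_reach : ∀ p, p < 58653 →
    ∃ g ∈ stabA, app g 1 = ONSimple.lev2.get p := by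
  intro p
  induction p using Nat.strongRecOn with
  | _ p IH =>
    intro hp
    rcases (lev2_reach hp).2.2 with rfl | ⟨h1, h2, h3⟩
    · exact ⟨1, stabA.one_mem, by rw [app_one, lev2_zero]⟩
    · obtain ⟨g, hg, hg1⟩ := IH _ h1 (h1.trans hp)
      set w := ONSimple.ws2.getD (ONSimple.lev2.pW p) [] with hw
      have hwm : w ∈ ONSimple.ws2 := by
        rw [hw, List.getD_eq_getElem _ _ h2]; exact List.getElem_mem _
      have hws : ∀ v ∈ ONSimple.ws2, ok7 v = true ∧ mv v 0 = 0 := by
        intro v hv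
        simp only [ONSimple.ws2, List.mem_cons, List.not_mem_nil, or_false] at hv
        rcases hv with rfl | rfl | rfl | rfl | rfl | rfl <;> constructor <;> decide +kernel
      obtain ⟨hok, hfix⟩ := hws w hwm
      refine ⟨ev w * g, stabA.mul_mem ?_ hg, ?_⟩
      · change app (ev w) 0 = 0
        rw [app_ev hok (by norm_num), hfix]
      · rw [app_mul, hg1, app_ev hok (lev2_lt (h1.trans hp)), h3]

theorem stab_facts : (∀ g ∈ stabA, ∃ p, p < 58653 ∧ app g 1 = ONSimple.lev2.get p) ∧
    (∀ g ∈ stabB, ∃ s ∈ stab2, g = ev s) := by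
  haveI := finite_ON
  choose rep0 hrep0 hrep01 using exists_stab_reach
  let rep : ∀ p, p < 58653 → Cfsg.Spor.ON := fun p hp => if p = 0 then 1 else rep0 p hp
  have hrep : ∀ p hp, rep p hp ∈ stabA := fun p hp => by
    simp only [rep]; split
    · exact stabA.one_mem
    · exact hrep0 p hp
  have hrep1 : ∀ p hp, app (rep p hp) 1 = ONSimple.lev2.get p := fun p hp => by
    simp only [rep]; split
    · next h => subst h; rw [app_one, lev2_zero]
    · exact hrep01 p hp
  let F : Fin 58653 × Fin 64 → stabA := fun pr =>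
    ⟨rep pr.1 pr.1.2 * ev (stab2.getD pr.2 []),
      stabA.mul_mem (hrep _ pr.1.2) (stab_word pr.2.2).2.1.1⟩
  have hF1 : ∀ pr, app (F pr : Cfsg.Spor.ON) 1 = ONSimple.lev2.get pr.1 := by
    intro pr
    change app (rep pr.1 pr.1.2 * ev (stab2.getD pr.2 [])) 1 = _
    rw [app_mul, (stab_word pr.2.2).2.1.2, hrep1]
  have hinj : Function.Injective F := by
    intro a b hab
    have e1 := congrArg (fun g : stabA => app (g : Cfsg.Spor.ON) 1) hab
    simp only [hF1] at e1
    have ha : a.1 = b.1 := Fin.ext (by rw [← lev2_idx a.1.2, e1, lev2_idx b.1.2])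
    obtain ⟨a1, a2⟩ := a
    obtain ⟨b1, b2⟩ := b
    simp only at ha
    subst ha
    have e2 : rep a1 a1.2 * ev (stab2.getD a2 []) = rep a1 a1.2 * ev (stab2.getD b2 []) :=
      congrArg Subtype.val hab
    have e3 := congrArg (fun g => app g 36508) (mul_left_cancel e2)
    simp only [(stab_word a2.2).2.2, (stab_word b2.2).2.2] at e3
    rw [lev3_get_injective a2 b2 e3]
  have hsurj : Function.Surjective F := by
    refine ((Nat.bijective_iff_injective_and_card F).mpr ⟨hinj, ?_⟩).2
    rw [Nat.card_prod, Nat.card_fin, Nat.card_fin, card_stabA]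
  refine ⟨fun g hg => ?_, fun g hg => ?_⟩
  · obtain ⟨pr, hpr⟩ := hsurj ⟨g, hg⟩
    exact ⟨pr.1, pr.1.2, by rw [← hF1 pr, hpr]⟩
  · obtain ⟨pr, hpr⟩ := hsurj ⟨g, hg.1⟩
    have e : rep pr.1 pr.1.2 * ev (stab2.getD pr.2 []) = g := congrArg Subtype.val hpr
    have h0 : pr.1 = ⟨0, by norm_num⟩ := by
      apply Fin.ext
      have := hF1 pr
      rw [hpr] at this
      change app g 1 = _ at this
      rw [hg.2, ← lev2_zero] at this
      change (pr.1 : ℕ) = 0
      rw [← lev2_idx pr.1.2, ← this, lev2_idx (by norm_num : 0 < 58653)]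
    have hone : rep pr.1 pr.1.2 = 1 := by simp [rep, h0]
    rw [hone, one_mul] at e
    exact ⟨_, (stab_word pr.2.2).1, e.symm⟩

theorem stab_lev2 (g : Cfsg.Spor.ON) (h0 : app g 0 = 0) :
    ∃ p, p < 58653 ∧ app g 1 = ONSimple.lev2.get p := stab_facts.1 g h0

theorem stab2_complete (g : Cfsg.Spor.ON) (h0 : app g 0 = 0) (h1 : app g 1 = 1) :
    ∃ s ∈ stab2, g = ev s := stab_facts.2 g ⟨h0, h1⟩

end Cfsg.Agent.Lib.ONOut
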