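import Mathlib
import Cfsg.Agent.Lib.ONOut.Stab
import Cfsg.Agent.Lib.ONOut.Small
import Cfsg.Agent.Lib.ONOut.CentY
import Cfsg.Agent.Lib.ONOut.PosXAll
import Cfsg.Agent.Lib.ONOut.ScanXAll
import Cfsg.Agent.Lib.ONOut.ScanAAll

/-!
Centralisers of the element of order 19 and of the element of order 6.
-/

namespace Cfsg.Agent.Lib.ONOut

open Cfsg.Agent.Lib.CosetTable

/-- the element of order 19 -/
noncomputable abbrev elX : Cfsg.Spor.ON := ev xW

/-- the element of order 6 -/
noncomputable abbrev elY : Cfsg.Spor.ON := ev yW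

theorem words_mem {w : List ℕ} (h : w ∈ [xW, yW, zW, zW2, gW] ++ centY ++ stab2) :
    ok7 w = true := allL_spec words_ok7 w h

theorem ok_x : ok7 xW = true := words_mem (by simp)

theorem ok_y : ok7 yW = true := words_mem (by simp)

theorem ok_z : ok7 zW = true := words_mem (by simp)

theorem ok_z2 : ok7 zW2 = true := words_mem (by simp)

theorem ok_g : ok7 gW = true := words_mem (by simp)

theorem ok_centY {c : List ℕ} (h : c ∈ centY) : ok7 c = true :=
  words_mem (List.mem_append_left _ (List.mem_append_right _ h))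

theorem ok_stab {c : List ℕ} (h : c ∈ stab2) : ok7 c = true :=
  words_mem (List.mem_append_right _ h)

theorem ok7_flatten {L : List (List ℕ)} (h : ∀ w ∈ L, ok7 w = true) :
    ok7 L.flatten = true := by
  rw [ok7_iff]
  intro a ha
  obtain ⟨w, hw, ha'⟩ := List.mem_flatten.mp ha
  exact ok7_iff.mp (h w hw) a ha'

theorem ok7_replicate {w : List ℕ} (h : ok7 w = true) (m : ℕ) :
    ok7 (List.replicate m w).flatten = true :=
  ok7_flatten fun v hv => by rw [List.eq_of_mem_replicate hv]; exact h

theorem ev_replicate (w : List ℕ) : ∀ m, ev (List.replicate m w).flatten = ev w ^ m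
  | 0 => by simp [ev, eval]
  | m + 1 => by
    rw [List.replicate_succ, List.flatten_cons, ev_append, ev_replicate w m, pow_succ]

theorem ok_xPow (k : ℕ) : ok7 (xPow k) = true := by
  unfold xPow
  split
  · exact ok7_replicate ok_x _
  · exact ok7_replicate (ok7_reverse ok_x) _

theorem elX_pow : elX ^ 19 = 1 := by
  rw [← ev_replicate, ← ev_nil]
  exact ev_eq_of_sameB (ok7_replicate ok_x _) rfl x_order

theorem elX_ne : elX ≠ 1 := by
  intro h
  have := sameB_of_ev_eq ok_x (w := []) rfl h
  rw [x_ne] at this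
  exact absurd this (by decide)

theorem orderOf_elX : orderOf elX = 19 := by
  haveI : Fact (Nat.Prime 19) := ⟨by norm_num⟩
  exact orderOf_eq_prime elX_pow elX_ne

theorem elX_pow_mod (k : ℕ) : elX ^ (k % 19) = elX ^ k := by
  rw [← orderOf_elX, pow_mod_orderOf]

theorem elX_pow_eq {a b : ℕ} (h : a % 19 = b % 19) : elX ^ a = elX ^ b := by
  rw [← elX_pow_mod a, h, elX_pow_mod]

theorem ev_xPow (k : ℕ) : ev (xPow k) = elX ^ k := by
  unfold xPow
  split
  · rw [ev_replicate, elX_pow_mod]
  · rw [ev_replicate, ev_reverse ok_x, inv_pow]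
    refine inv_eq_of_mul_eq_one_left ?_
    rw [← pow_add, ← orderOf_dvd_iff_pow_eq_one, orderOf_elX]
    omega

theorem elY_conj : elY * elX * elY⁻¹ = elX ^ 8 := by
  have h := ev_eq_of_sameB (ok7_append (ok7_reverse ok_y) (ok7_append ok_x ok_y))
    (ok7_replicate ok_x 8) y_conj
  rwa [ev_append, ev_append, ev_reverse ok_y, ev_replicate] at h

theorem app_eq {h u : Cfsg.Spor.ON} (hc : h * u = u * h) {i : ℕ} (hi : app u i = i) :
    app u (app h i) = app h i := by
  rw [← app_mul, ← hc, app_mul, hi]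

theorem memL_iff {l : List ℕ} {q : ℕ} : memL l q = true ↔ q ∈ l := by
  induction l with
  | nil => simp [memL]
  | cons h l ih =>
    change iteB (Nat.beq h q) true (memL l q) = true ↔ _
    rw [iteB_eq, List.mem_cons]
    cases hb : Nat.beq h q
    · have : h ≠ q := fun e => by rw [beq_iff.mpr e] at hb; exact Bool.noConfusion hb
      simp only [cond_false, ih]
      exact ⟨Or.inr, fun h' => h'.resolve_left (Ne.symm this)⟩
    · simp only [cond_true, true_iff]
      exact Or.inl (beq_iff.mp hb).symm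

theorem anyL_spec {α : Type} {p : α → Bool} {l : List α} (h : anyL p l = true) :
    ∃ c ∈ l, p c = true := by
  induction l with
  | nil => simp [anyL] at h
  | cons a l ih =>
    change iteB (p a) true (anyL p l) = true at h
    rw [iteB_eq] at h
    cases ha : p a
    · rw [ha, cond_false] at h
      obtain ⟨c, hc, hp⟩ := ih h
      exact ⟨c, List.mem_cons_of_mem _ hc, hp⟩
    · exact ⟨a, List.mem_cons_self, ha⟩

theorem iteB_true_imp {c a b : Bool} (h : iteB c a b = true) (hc : c = true) : a = true := by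
  rw [iteB_eq, hc, cond_true] at h; exact h

theorem app_x_fix {i : ℕ} (hi : i < 122760) (h : app elX i = i) : i = 0 := by
  rw [app_ev ok_x hi] at h
  have := scanX_all i hi
  exact beq_iff.mp (iteB_true_imp this (beq_iff.mpr h))

theorem kk_rep : ∀ (n p : ℕ), p < 58653 → kk p = n →
    ∃ p', p' < 58653 ∧ kk p' = 0 ∧ ∃ j,
      app (elX ^ j) (ONSimple.lev2.get p) = ONSimple.lev2.get p' := by
  intro n
  induction n with
  | zero => intro p hp hk; exact ⟨p, hp, hk, 0, by rw [pow_zero, app_one]⟩
  | succ n ih =>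
    intro p hp hk
    have h := posX_all p hp
    simp only [posX, force_eq, iteB_eq, andB_eq] at h
    have hb : Nat.beq (kk p) 0 = false := by rw [hk]; rfl
    rw [hb, cond_false, Bool.and_eq_true] at h
    obtain ⟨hm, hs⟩ := h
    simp only [Big.Orb.mem, andB_eq, Bool.and_eq_true, beq_iff, blt_iff] at hm
    have hlt := lev2_lt hp
    rw [beq_iff, hk] at hs
    obtain ⟨p', h1, h2, j, hj⟩ := ih _ (lt_of_lt_of_eq hm.1 lev2_m) (by omega)
    refine ⟨p', h1, h2, j + 1, ?_⟩
    rw [pow_succ, app_mul, app_ev ok_x hlt]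
    rw [hm.2] at hj
    exact hj

/-- an element taking `elX` to a power of exponent 1, 2 or 4 is a power of `elX` -/
theorem cent_x {i : ℕ} (hi : i ∈ [1, 2, 4]) {h : Cfsg.Spor.ON}
    (hc : h * elX = elX ^ i * h) : i = 1 ∧ h ∈ Subgroup.zpowers elX := by
  have hx0 : app elX 0 = 0 := by
    rw [app_ev ok_x (by norm_num)]; decide +kernel
  have h0lt : app h 0 < 122760 := app_lt h (by norm_num)
  have hh0 : app h 0 = 0 := by
    refine app_x_fix h0lt ?_
    have hfix : app (elX ^ i) (app h 0) = app h 0 := by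
      rw [← app_mul, ← hc, app_mul, hx0]
    have hpow : ∀ m, app ((elX ^ i) ^ m) (app h 0) = app h 0 := by
      intro m
      induction m with
      | zero => rw [pow_zero, app_one]
      | succ m ihm => rw [pow_succ, app_mul, hfix, ihm]
    obtain ⟨m, hm⟩ : ∃ m, i * m % 19 = 1 := by
      simp only [List.mem_cons, List.not_mem_nil, or_false] at hi
      rcases hi with rfl | rfl | rfl
      exacts [⟨1, rfl⟩, ⟨10, rfl⟩, ⟨5, rfl⟩]
    have e : (elX ^ i) ^ m = elX := by
      rw [← pow_mul, ← elX_pow_mod, hm, pow_one]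
    simpa [e] using hpow m
  obtain ⟨p, hp, hp1⟩ := stab_lev2 h hh0
  obtain ⟨p', hp', hk', j, hj⟩ := kk_rep _ p hp rfl
  have hxj : app (elX ^ j) 0 = 0 := by
    induction j generalizing p' with
    | zero => rw [pow_zero, app_one]
    | succ j ihj =>
      have : ∀ m, app (elX ^ m) 0 = 0 := by
        intro m
        induction m with
        | zero => rw [pow_zero, app_one]
        | succ m ihm => rw [pow_succ, app_mul, hx0, ihm]
      exact this _
  have hc' : (elX ^ j * h) * elX = elX ^ i * (elX ^ j * h) := by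
    rw [mul_assoc, hc, ← mul_assoc, ← pow_add, add_comm, pow_add, mul_assoc]
  set g := elX ^ j * h with hg
  have hg0 : app g 0 = 0 := by rw [hg, app_mul, hh0, hxj]
  have hg1 : app g 1 = ONSimple.lev2.get p' := by rw [hg, app_mul, hp1, hj]
  have hb := posX_all p' hp'
  simp only [posX, force_eq, iteB_eq, andB_eq] at hb
  rw [hk'] at hb
  simp only [Nat.beq_refl, cond_true, Bool.and_eq_true, beq_iff] at hb
  obtain ⟨⟨hv0, hv1, hvok⟩, hsift⟩ := hb
  set v := path2 p' with hv
  have hV0 : app (ev v) 0 = 0 := by rw [app_ev hvok (by norm_num), hv0]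
  have hV1 : app (ev v) 1 = ONSimple.lev2.get p' := by rw [app_ev hvok (by norm_num), hv1]
  obtain ⟨s, hs, hse⟩ := stab2_complete ((ev v)⁻¹ * g)
    (by rw [app_mul, hg0]; exact app_inv_eq hV0)
    (by rw [app_mul, hg1]; exact app_inv_eq hV1)
  have hgs : g = ev (s ++ v) := by rw [ev_append, ← hse, mul_inv_cancel_left]
  have hsft := allL_spec hsift i hi
  simp only [siftX, force_eq] at hsft
  have hx1lt : mv xW 1 < 122760 := by rw [← app_ev ok_x (by norm_num)]; exact app_lt _ (by norm_num)
  have hqlt : ONSimple.lev2.get p' < 122760 := lev2_lt hp'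
  have hplt : mv (xPow i) (ONSimple.lev2.get p') < 122760 := by
    rw [← app_ev (ok_xPow i) hqlt]; exact app_lt _ hqlt
  have htarget : mv s (mv xW 1) = mv v.reverse (mv (xPow i) (ONSimple.lev2.get p')) := by
    rw [← app_ev (ok_stab hs) hx1lt, ← app_ev ok_x (by norm_num), ← app_mul,
      ← app_ev (ok7_reverse hvok) hplt, ← app_ev (ok_xPow i) hqlt, ← app_mul, ev_reverse hvok,
      ev_xPow, ← hg1, ← app_mul, ← hse]
    congr 1
    rw [mul_assoc, hc']
    group
  have h2 := iteB_true_imp (allL_spec hsft s hs) (beq_iff.mpr htarget)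
  have hokgs : ok7 (s ++ v) = true := ok7_append (ok_stab hs) hvok
  have heq : sameB (xW ++ (s ++ v)) (s ++ v ++ xPow i) = true := by
    refine sameB_of_ev_eq (ok7_append ok_x hokgs) (ok7_append hokgs (ok_xPow i)) ?_
    rw [ev_append, ev_append (s ++ v), ← hgs, ev_xPow]
    exact hc'
  have h3 := iteB_true_imp h2 heq
  rw [andB_eq, Bool.and_eq_true, beq_iff] at h3
  refine ⟨h3.1, ?_⟩
  have hg1' : g = 1 := by
    rw [hgs, ← ev_nil]
    exact ev_eq_of_sameB hokgs rfl h3.2
  have : h = (elX ^ j)⁻¹ := eq_inv_of_mul_eq_one_right hg1'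
  rw [this]
  exact Subgroup.inv_mem _ (Subgroup.pow_mem _ (Subgroup.mem_zpowers _) _)

theorem elY_fix0 : app elY 0 = 0 := by
  rw [app_ev ok_y (by norm_num)]; exact y_fix.1

theorem elY3_fix1 : app (elY * elY * elY) 1 = 1 := by
  have h := y_fix.2
  rw [← app_ev (ok7_append ok_y (ok7_append ok_y ok_y)) (by norm_num), ev_append, ev_append] at h
  exact h

theorem fixT_mem {q : ℕ} (hq : q < 122760) (h : app (elY * elY * elY) q = q) : q ∈ fixT := by
  have hG := ev_eq_of_sameB (ok7_append (ok7_reverse ok_g) (ok7_append (v := [0]) rfl ok_g))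
    (ok7_append ok_y (ok7_append ok_y ok_y)) g_conj
  rw [ev_append, ev_append, ev_reverse ok_g, ev_append, ev_append] at hG
  rw [← hG, app_mul, app_mul] at h
  set a := app (ev gW)⁻¹ q with ha
  have hqa : app (ev gW) a = q := by rw [ha, ← app_mul, mul_inv_cancel, app_one]
  have hA : app (ev [0]) a = a := app_injective (ev gW) (by rw [h, hqa])
  have halt : a < 122760 := app_lt _ hq
  rw [app_ev (w := [0]) rfl halt] at hA
  have hm : memL fixA a = true := by
    refine iteB_true_imp (scanA_all a halt) (beq_iff.mpr ?_)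
    simpa [mv, Big.Table.walk, force_eq] using hA
  rw [memL_iff] at hm
  refine List.mem_map.mpr ⟨a, hm, ?_⟩
  rw [← app_ev ok_g halt, hqa]

theorem allY_mem {p : ℕ × List ℕ} (hp : p ∈ fixY) : allY p = true := by
  obtain ⟨j, hj, rfl⟩ := List.getElem_of_mem hp
  have hlen : fixY.length = 9 := rfl
  rw [← List.getD_eq_getElem fixY (0, []) hj]
  rw [hlen] at hj
  interval_cases j
  exacts [allY_0, allY_1, allY_2, allY_3, allY_4, allY_5, allY_6, allY_7, allY_8]

/-- the centraliser of `elY` is listed -/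
theorem cent_y {h : Cfsg.Spor.ON} (hc : h * elY = elY * h) :
    ∃ c ∈ centY, h = ev c := by
  have hc3 : h * (elY * elY * elY) = elY * elY * elY * h := by
    rw [← mul_assoc, ← mul_assoc, hc, mul_assoc elY h elY, hc, ← mul_assoc, mul_assoc _ h elY, hc,
      ← mul_assoc]
  have h0 := app_eq hc elY_fix0
  have h3fix0 : app (elY * elY * elY) (app h 0) = app h 0 := by
    rw [app_mul, app_mul, h0, h0, h0]
  have hq := fixT_mem (app_lt h (by norm_num)) (app_eq hc3 elY3_fix1)
  have hp0 := fixT_mem (app_lt h (by norm_num)) h3fix0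
  have hmem := iteB_true_imp (allL_spec fixY_all _ hp0)
    (beq_iff.mpr (by rw [← app_ev ok_y (app_lt h (by norm_num)), h0]))
  rw [memL_iff, List.mem_map] at hmem
  obtain ⟨p, hpY, hp⟩ := hmem
  have hall := allY_mem hpY
  simp only [allY, andB_eq, Bool.and_eq_true, beq_iff] at hall
  obtain ⟨⟨hu0, huok⟩, hpairs⟩ := hall
  have hU0 : app (ev p.2) 0 = app h 0 := by rw [app_ev huok (by norm_num), hu0, hp]
  have hk0 : app ((ev p.2)⁻¹ * h) 0 = 0 := by rw [app_mul]; exact app_inv_eq hU0
  obtain ⟨pos, hpos, hk1⟩ := stab_lev2 _ hk0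
  have hq1lt : app h 1 < 122760 := app_lt h (by norm_num)
  have hmv : mv p.2.reverse (app h 1) = ONSimple.lev2.get pos := by
    rw [← app_ev (ok7_reverse huok) hq1lt, ev_reverse huok, ← app_mul, hk1]
  have hpair := allL_spec hpairs _ hq
  simp only [pairY, force_eq] at hpair
  rw [hmv] at hpair
  have hmem2 : ONSimple.lev2.mem (ONSimple.lev2.get pos) = true := by
    simp only [Big.Orb.mem, andB_eq, Bool.and_eq_true, beq_iff, blt_iff]
    rw [lev2_idx hpos]
    exact ⟨hpos.trans_eq lev2_m.symm, rfl⟩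
  have hbody := iteB_true_imp hpair hmem2
  rw [lev2_idx hpos] at hbody
  simp only [andB_eq, Bool.and_eq_true, beq_iff] at hbody
  obtain ⟨⟨hv0, hv1, hvok⟩, hall2⟩ := hbody
  set v := path2 pos with hv
  set u := p.2 with hu
  have hV0 : app (ev v) 0 = 0 := by rw [app_ev hvok (by norm_num), hv0]
  have hV1 : app (ev v) 1 = ONSimple.lev2.get pos := by rw [app_ev hvok (by norm_num), hv1]
  obtain ⟨s, hs, hse⟩ := stab2_complete ((ev v)⁻¹ * ((ev u)⁻¹ * h))
    (by rw [app_mul, hk0]; exact app_inv_eq hV0)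
    (by rw [app_mul, hk1]; exact app_inv_eq hV1)
  have hhs : h = ev (s ++ v ++ u) := by
    rw [ev_append, ev_append, ← hse, mul_inv_cancel_left, mul_inv_cancel_left]
  have hy1lt : mv yW 1 < 122760 := by rw [← app_ev ok_y (by norm_num)]; exact app_lt _ (by norm_num)
  have hyq : mv yW (app h 1) < 122760 := by rw [← app_ev ok_y hq1lt]; exact app_lt _ hq1lt
  have huy : mv u.reverse (mv yW (app h 1)) < 122760 := by
    rw [← app_ev (ok7_reverse huok) hyq]; exact app_lt _ hyq
  have htarget : mv s (mv yW 1) = mv v.reverse (mv u.reverse (mv yW (app h 1))) := by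
    rw [← app_ev (ok_stab hs) hy1lt, ← app_ev ok_y (by norm_num), ← app_mul,
      ← app_ev (ok7_reverse hvok) huy, ← app_ev (ok7_reverse huok) hyq, ← app_ev ok_y hq1lt,
      ← app_mul, ← app_mul, ← app_mul, ev_reverse hvok, ev_reverse huok, ← hse]
    congr 1
    rw [mul_assoc, mul_assoc, hc]
    group
  have h2 := iteB_true_imp (allL_spec hall2 s hs) (beq_iff.mpr htarget)
  have hokh : ok7 (s ++ v ++ u) = true := ok7_append (ok7_append (ok_stab hs) hvok) huok
  have heq : sameB (yW ++ (s ++ v ++ u)) (s ++ v ++ u ++ yW) = true := by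
    refine sameB_of_ev_eq (ok7_append ok_y hokh) (ok7_append hokh ok_y) ?_
    rw [ev_append, ev_append (s ++ v ++ u), ← hhs]
    exact hc
  obtain ⟨c, hcm, hcs⟩ := anyL_spec (iteB_true_imp h2 heq)
  exact ⟨c, hcm, by rw [hhs]; exact ev_eq_of_sameB hokh (ok_centY hcm) hcs⟩

end Cfsg.Agent.Lib.ONOut
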