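import Cfsg.Agent.Lib.ONOut.Defs

/-! Evaluated checks: excluded images. -/

namespace Cfsg.Agent.Lib.ONOut

open Cfsg.Agent.Lib.CosetTable

set_option maxRecDepth 20000
set_option Elab.async false

theorem excl_1 : failsFrom 1 centY (excl.drop 0) = true := by decide +kernel

theorem excl_2 : failsFrom 2 centY (excl.drop 72) = true := by decide +kernel

theorem excl_4 : failsFrom 4 centY (excl.drop 144) = true := by decide +kernel

end Cfsg.Agent.Lib.ONOut
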