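import Mathlib
import Cfsg.Agent.Lib.ONOut.Cent
import Cfsg.Agent.Lib.ONOut.Excl
import Cfsg.Agent.S1699
import Cfsg.Prelude.Def_KGroupFacts

/-!
The outer automorphism group of O'Nan's group has order 2.
-/

namespace Cfsg.Agent.Lib.ONOut

open Cfsg.Agent.Lib.CosetTable

/-- the element of `C(elY)` generating with `elX` -/
noncomputable abbrev elZ : Cfsg.Spor.ON := ev zW

theorem ok_subW {c : List ℕ} (hc : ok7 c = true) (i : ℕ) (K : List ℕ) (e : ℕ) :
    ok7 (subW i c K e) = true := by
  refine ok7_append ?_ (ok_xPow _)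
  rw [List.flatMap]
  refine ok7_flatten fun w hw => ?_
  obtain ⟨k, -, rfl⟩ := List.mem_map.mp hw
  exact ok7_append (ok_xPow _) hc

theorem ok_img (a : ℕ) : ok7 (img a) = true := ok_subW ok_z2 _ _ _

theorem map_subW (ψ : Cfsg.Spor.ON →* Cfsg.Spor.ON) {i : ℕ} {c : List ℕ}
    (hx : ψ elX = elX ^ i) (hz : ψ elZ = ev c) :
    ∀ (K : List ℕ) (e : ℕ), ψ (ev (subW 1 zW K e)) = ev (subW i c K e)
  | [], e => by simp [subW, ev_xPow, map_pow, hx, ← pow_mul, mul_comm]
  | k :: K, e => by
    have ih := map_subW ψ hx hz K e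
    have h1 : ∀ (j : ℕ) (d : List ℕ), subW j d (k :: K) e = xPow (k * j) ++ d ++ subW j d K e := by
      intro j d; simp [subW, List.append_assoc]
    rw [h1, h1, ev_append, ev_append, ev_append, ev_append, map_mul, map_mul, ih, hz, ev_xPow,
      ev_xPow, mul_one, map_pow, hx, ← pow_mul, mul_comm i k]

theorem gen_word {a : ℕ} (ha : a < 7) :
    ev (subW 1 zW (genK.getD a ([], 0)).1 (genK.getD a ([], 0)).2) = ONPres.gn a := by
  have h := rangeAll_spec gens_ok a (Nat.zero_le _) (by omega)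
  rw [ev_eq_of_sameB (ok_subW ok_z _ _ _) (w := [a]) (by rw [ok7_iff]; simpa using ha) h]
  exact one_mul _

theorem hom_ext {ψ θ : Cfsg.Spor.ON →* Cfsg.Spor.ON}
    (h : ∀ a, a < 7 → ψ (ONPres.gn a) = θ (ONPres.gn a)) : ψ = θ := by
  refine MonoidHom.eq_of_eqOn_dense ONPres.model_top.gen ?_
  rintro _ ⟨a, ha, rfl⟩
  exact h a (lt_of_lt_of_eq ha cert_k)

theorem eval_eq_pr {G : Type*} [Group G] (f : ℕ → G) :
    ∀ w : List ℕ, eval f w = ONPres.pr f w.reverse
  | [] => rfl
  | a :: w => by simp [eval, eval_eq_pr f w, ONPres.pr]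

theorem eval_img : ∀ w : List ℕ, eval (fun a => ev (img a)) w = ev (w.flatMap img)
  | [] => rfl
  | a :: w => by rw [List.flatMap_cons, ev_append, eval, eval_img w]

theorem ok_flat_img (w : List ℕ) : ok7 (w.flatMap img) = true := by
  rw [List.flatMap]
  refine ok7_flatten fun v hv => ?_
  obtain ⟨k, -, rfl⟩ := List.mem_map.mp hv
  exact ok_img k

theorem exists_sigma : ∃ σ : Cfsg.Spor.ON →* Cfsg.Spor.ON,
    ∀ a, a < 7 → σ (ONPres.gn a) = ev (img a) := by
  refine ONPres.exists_hom ((ONPres.invol_iff ?_).mpr ?_)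
  · intro a ha
    rw [← ev_append, ← ev_nil]
    exact ev_eq_of_sameB (ok7_append (ok_img a) (ok_img a)) rfl
      (rangeAll_spec img_invol a (Nat.zero_le _) (by omega))
  · intro w hw
    rw [← List.reverse_reverse w, ← eval_eq_pr, eval_img, ← ev_nil]
    exact ev_eq_of_sameB (ok_flat_img _) rfl (allL_spec img_rels w hw)

/-- the outer automorphism, as a homomorphism -/
noncomputable def sigma : Cfsg.Spor.ON →* Cfsg.Spor.ON := Classical.choose exists_sigma

theorem sigma_gn {a : ℕ} (ha : a < 7) : sigma (ONPres.gn a) = ev (img a) :=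
  Classical.choose_spec exists_sigma a ha

theorem sigma_ev : ∀ {w : List ℕ}, ok7 w = true → sigma (ev w) = ev (w.flatMap img)
  | [], _ => by simp [ev, eval]
  | a :: w, h => by
    rw [ok7_iff] at h
    have hw : ok7 w = true := ok7_iff.mpr fun b hb => h b (List.mem_cons_of_mem _ hb)
    rw [List.flatMap_cons, ev_append, ← sigma_ev hw, ← sigma_gn (h a List.mem_cons_self),
      ← map_mul]
    rfl

theorem sigma_x : sigma elX = elX := by
  rw [sigma_ev ok_x]; exact ev_eq_of_sameB (ok_flat_img _) ok_x img_x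

theorem sigma_y : sigma elY = elY := by
  rw [sigma_ev ok_y]; exact ev_eq_of_sameB (ok_flat_img _) ok_y img_y

theorem sigma_z : sigma elZ = ev zW2 := by
  rw [sigma_ev ok_z]; exact ev_eq_of_sameB (ok_flat_img _) ok_z2 img_z

theorem sigma_bijective : Function.Bijective sigma := by
  haveI := finite_ON
  haveI := S1699.result.1
  have hinj : Function.Injective sigma := by
    rw [← MonoidHom.ker_eq_bot_iff]
    refine ((MonoidHom.normal_ker sigma).eq_bot_or_eq_top).resolve_right fun htop => elX_ne ?_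
    have : elX ∈ sigma.ker := htop ▸ Subgroup.mem_top _
    rw [MonoidHom.mem_ker, sigma_x] at this
    exact this
  exact Finite.injective_iff_bijective.mp hinj

/-- the outer automorphism -/
noncomputable def sigmaAut : MulAut Cfsg.Spor.ON := MulEquiv.ofBijective sigma sigma_bijective

theorem elY_move (r : ℕ) : elX ^ r * elY = elY * elX ^ (12 * r) := by
  have h : elY * elX ^ (12 * r) * elY⁻¹ = elX ^ r := by
    rw [← conj_pow, elY_conj, ← pow_mul]
    exact elX_pow_eq (by omega)
  nth_rewrite 1 [← h]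
  rw [inv_mul_cancel_right]

theorem sigmaAut_not_inner : sigmaAut ∉ Cfsg.Inn Cfsg.Spor.ON := by
  haveI := finite_ON
  rintro ⟨h, hh⟩
  have key : ∀ g, h * g * h⁻¹ = sigma g := fun g => by
    rw [← MulAut.conj_apply, hh]; rfl
  have hx : h * elX = elX ^ 1 * h := by
    have := key elX
    rw [sigma_x, mul_inv_eq_iff_eq_mul] at this
    rw [pow_one]; exact this
  obtain ⟨-, hm⟩ := cent_x (by simp) hx
  obtain ⟨s, rfl⟩ : ∃ s : ℕ, elX ^ s = h := by
    rwa [← mem_powers_iff_mem_zpowers] at hm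
  have hy : elX ^ s * elY = elY * elX ^ s := by
    have := key elY
    rwa [sigma_y, mul_inv_eq_iff_eq_mul] at this
  rw [elY_move, mul_left_cancel_iff] at hy
  have hs : elX ^ s = 1 := by
    have h2 := (pow_inj_mod).mp hy
    rw [orderOf_elX] at h2
    rw [← elX_pow_mod, show s % 19 = 0 by omega, pow_zero]
  have hz := key elZ
  rw [sigma_z, hs, one_mul, inv_one, mul_one] at hz
  have := sameB_of_ev_eq ok_z ok_z2 hz
  rw [z_ne] at this
  exact absurd this (by decide)

theorem failsFrom_mem {i : ℕ} : ∀ {l : List (List ℕ)} {e : List ℕ},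
    failsFrom i l e = true → ∀ c ∈ l, ∃ n, failsOK i c n = true
  | [], _, _, c, hc => absurd hc List.not_mem_nil
  | a :: l, [], h, c, _ => by simp [failsFrom] at h
  | a :: l, n :: e, h, c, hc => by
    change andB (failsOK i a n) (failsFrom i l e) = true at h
    rw [andB_eq, Bool.and_eq_true] at h
    rcases List.mem_cons.mp hc with rfl | hc
    · exact ⟨n, h.1⟩
    · exact failsFrom_mem h.2 c hc

/-- an automorphism in normal form is the identity or the outer one -/
theorem normal_form {α : MulAut Cfsg.Spor.ON} {i : ℕ} (hi : i ∈ [1, 2, 4])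
    (hx : α elX = elX ^ i) (hy : α elY = elY) : α = 1 ∨ α = sigmaAut := by
  have hzc : α elZ * elY = elY * α elZ := by
    have e : elZ * elY = elY * elZ := by
      rw [← ev_append, ← ev_append]
      exact ev_eq_of_sameB (ok7_append ok_y ok_z) (ok7_append ok_z ok_y) z_comm
    calc α elZ * elY = α elZ * α elY := by rw [hy]
      _ = α (elY * elZ) := by rw [← map_mul, e]
      _ = elY * α elZ := by rw [map_mul, hy]
  obtain ⟨c, hc, hzc'⟩ := cent_y hzc
  obtain ⟨n, hn⟩ : ∃ n, failsOK i c n = true := by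
    simp only [List.mem_cons, List.not_mem_nil, or_false] at hi
    rcases hi with rfl | rfl | rfl
    exacts [failsFrom_mem excl_1 c hc, failsFrom_mem excl_2 c hc, failsFrom_mem excl_4 c hc]
  by_cases hn0 : n = 0
  · subst hn0
    simp only [failsOK, iteB_eq, andB_eq, Nat.beq_refl, cond_true, Bool.and_eq_true, beq_iff] at hn
    obtain ⟨rfl, hcz⟩ := hn
    have hgn : ∀ a, a < 7 → α (ONPres.gn a) =
        ev (subW 1 c (genK.getD a ([], 0)).1 (genK.getD a ([], 0)).2) := fun a ha => by
      have := map_subW α.toMonoidHom (i := 1) (c := c) hx hzc' (genK.getD a ([], 0)).1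
        (genK.getD a ([], 0)).2
      rwa [gen_word ha] at this
    cases hb : sameB c zW with
    | true =>
      left
      have e := ev_eq_of_sameB (ok_centY hc) ok_z hb
      have h : α.toMonoidHom = MonoidHom.id _ := hom_ext fun a ha => by
        change α (ONPres.gn a) = ONPres.gn a
        rw [hgn a ha, ← map_subW (MonoidHom.id _) (i := 1) (pow_one elX).symm e.symm]
        exact gen_word ha
      exact MulEquiv.ext fun g => congrArg (fun f : Cfsg.Spor.ON →* Cfsg.Spor.ON => f g) h
    | false =>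
      right
      rw [hb, cond_false] at hcz
      have e := ev_eq_of_sameB (ok_centY hc) ok_z2 hcz
      have h : α.toMonoidHom = sigma := hom_ext fun a ha => by
        change α (ONPres.gn a) = sigma (ONPres.gn a)
        rw [hgn a ha, ← map_subW sigma (i := 1) (sigma_x.trans (pow_one elX).symm)
          (sigma_z.trans e.symm), gen_word ha]
      exact MulEquiv.ext fun g => congrArg (fun f : Cfsg.Spor.ON →* Cfsg.Spor.ON => f g) h
  · exfalso
    simp only [failsOK, iteB_eq, andB_eq, force_eq] at hn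
    rw [show Nat.beq n 0 = false by rw [Bool.eq_false_iff]; exact fun e => hn0 (beq_iff.mp e),
      cond_false] at hn
    set t := tests.getD (n - 1) ([], 0) with ht
    have hrel : ev (List.replicate t.2 (subW 1 zW t.1 0)).flatten = 1 := by
      rw [← ev_nil]
      refine ev_eq_of_sameB (ok7_replicate (ok_subW ok_z _ _ _) _) rfl ?_
      by_cases hlt : n - 1 < tests.length
      · refine allL_spec tests_ok t ?_
        rw [ht, List.getD_eq_getElem _ _ hlt]
        exact List.getElem_mem _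
      · rw [ht, List.getD_eq_default _ _ (by omega)]
        simp [sameB, base3, allL, andB_eq, mv, Big.Table.walk]
    have himg : ev (List.replicate t.2 (subW i c t.1 0)).flatten = 1 := by
      have h2 := congrArg α hrel
      have h3 := map_subW α.toMonoidHom (i := i) (c := c) hx hzc' t.1 0
      change α (ev (subW 1 zW t.1 0)) = _ at h3
      rw [ev_replicate, map_pow, map_one, h3] at h2
      rw [ev_replicate]; exact h2
    have hbad := sameB_of_ev_eq (w := []) (ok7_replicate (ok_subW (ok_centY hc) _ _ _) _) rfl himg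
    rw [hbad, cond_true] at hn
    exact Bool.noConfusion hn

theorem normalise (α : MulAut Cfsg.Spor.ON) :
    ∃ u : Cfsg.Spor.ON, ∃ i ∈ [1, 2, 4], (MulAut.conj u * α) elX = elX ^ i ∧
      (MulAut.conj u * α) elY = elY := by
  haveI := finite_ON
  haveI : Fact (Nat.Prime 19) := ⟨by norm_num⟩
  have hsyl : ∀ g : Cfsg.Spor.ON, orderOf g = 19 →
      ∃ P : Sylow 19 Cfsg.Spor.ON, (P : Subgroup Cfsg.Spor.ON) = Subgroup.zpowers g := by
    intro g hg
    have hp : IsPGroup 19 (Subgroup.zpowers g) :=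
      IsPGroup.of_card (n := 1) (by rw [Nat.card_zpowers, hg, pow_one])
    obtain ⟨P, hP⟩ := hp.exists_le_sylow
    refine ⟨P, (Subgroup.eq_of_le_of_card_ge hP ?_).symm⟩
    rw [Nat.card_zpowers, hg]
    obtain ⟨k, hk⟩ := IsPGroup.iff_card.mp P.2
    rw [hk]
    by_contra hlt
    have hk2 : 2 ≤ k := by
      rcases k with _ | _ | k
      · norm_num at hlt
      · norm_num at hlt
      · omega
    have hd : (19 : ℕ) ^ 2 ∣ Nat.card Cfsg.Spor.ON :=
      ((pow_dvd_pow 19 hk2).trans (dvd_of_eq hk.symm)).trans (Subgroup.card_subgroup_dvd_card _)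
    rw [card_ON] at hd
    norm_num at hd
  obtain ⟨P, hP⟩ := hsyl elX orderOf_elX
  obtain ⟨Q, hQ⟩ := hsyl (α elX) (by rw [MulEquiv.orderOf_eq, orderOf_elX])
  obtain ⟨g, hg⟩ := MulAction.exists_smul_eq Cfsg.Spor.ON Q P
  have hin : (MulAut.conj g) (α elX) ∈ Subgroup.zpowers elX := by
    have : MulAut.conj g (α elX) ∈ ((g • Q : Sylow 19 Cfsg.Spor.ON) : Subgroup Cfsg.Spor.ON) :=
      Subgroup.smul_mem_pointwise_smul _ (MulAut.conj g) _
        (by rw [hQ]; exact Subgroup.mem_zpowers _)
    rwa [hg, hP] at this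
  rw [← mem_powers_iff_mem_zpowers] at hin
  obtain ⟨j, hj⟩ := hin
  change elX ^ j = _ at hj
  have hj0 : j % 19 ≠ 0 := by
    intro h0
    rw [← elX_pow_mod, h0, pow_zero] at hj
    exact elX_ne (α.injective ((MulAut.conj g).injective (by rw [map_one, map_one, ← hj])))
  have hcases : ∀ j, j < 19 → j ≠ 0 →
      ∃ m, m < 6 ∧ (j * 8 ^ m % 19 = 1 ∨ j * 8 ^ m % 19 = 2 ∨ j * 8 ^ m % 19 = 4) := by
    decide
  obtain ⟨m, -, hm⟩ := hcases (j % 19) (Nat.mod_lt _ (by norm_num)) hj0
  have hYm : ∀ (m k : ℕ), elY ^ m * elX ^ k * (elY ^ m)⁻¹ = elX ^ (k * 8 ^ m) := by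
    intro m
    induction m with
    | zero => simp
    | succ m ihm =>
      intro k
      rw [pow_succ, mul_inv_rev, show elY ^ m * elY * elX ^ k * (elY⁻¹ * (elY ^ m)⁻¹) =
        elY ^ m * (elY * elX ^ k * elY⁻¹) * (elY ^ m)⁻¹ by group, ← conj_pow, elY_conj,
        ← pow_mul, ihm, pow_succ]
      congr 1
      ring
  obtain ⟨i, hi, him⟩ : ∃ i ∈ [1, 2, 4], (j % 19) * 8 ^ m % 19 = i % 19 := by
    rcases hm with h | h | h
    exacts [⟨1, by simp, h⟩, ⟨2, by simp, h⟩, ⟨4, by simp, h⟩]
  set β := MulAut.conj (elY ^ m * g) * α with hβ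
  have hβx : β elX = elX ^ i := by
    rw [hβ, MulAut.mul_apply, map_mul, MulAut.mul_apply, ← hj, MulAut.conj_apply, ← elX_pow_mod j,
      hYm]
    exact elX_pow_eq him
  -- the image of the second element differs from it by a power of the first
  have hconj : β elY * elX ^ i * (β elY)⁻¹ = elX ^ (i * 8) := by
    rw [← hβx, ← map_inv, ← map_mul, ← map_mul, elY_conj, map_pow, hβx, ← pow_mul]
  have hcomm : (elY⁻¹ * β elY) * elX = elX ^ 1 * (elY⁻¹ * β elY) := by
    obtain ⟨r, hr⟩ : ∃ r, i * r % 19 = 1 := by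
      simp only [List.mem_cons, List.not_mem_nil, or_false] at hi
      rcases hi with rfl | rfl | rfl
      exacts [⟨1, rfl⟩, ⟨10, rfl⟩, ⟨5, rfl⟩]
    have e : (elX ^ i) ^ r = elX := by rw [← pow_mul, ← elX_pow_mod, hr, pow_one]
    have e1 : elY * elX ^ i * elY⁻¹ = elX ^ (i * 8) := by
      rw [← conj_pow, elY_conj, ← pow_mul, mul_comm]
    have hc : Commute (elY⁻¹ * β elY) (elX ^ i) := by
      change (elY⁻¹ * β elY) * elX ^ i = elX ^ i * (elY⁻¹ * β elY)
      rw [mul_assoc, mul_inv_eq_iff_eq_mul.mp hconj, ← e1]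
      group
    rw [pow_one]
    have := hc.pow_right r
    rwa [e] at this
  obtain ⟨-, hmem⟩ := cent_x (i := 1) (by simp) hcomm
  rw [← mem_powers_iff_mem_zpowers] at hmem
  obtain ⟨s, hs⟩ := hmem
  change elX ^ s = _ at hs
  have hW : β elY = elY * elX ^ s := by rw [hs, mul_inv_cancel_left]
  refine ⟨elX ^ (12 * s) * (elY ^ m * g), i, hi, ?_, ?_⟩
  · rw [map_mul, mul_assoc, ← hβ, MulAut.mul_apply, hβx, MulAut.conj_apply, ← pow_add]
    rw [mul_inv_eq_iff_eq_mul, ← pow_add, add_comm]
  · rw [map_mul, mul_assoc, ← hβ, MulAut.mul_apply, hW, MulAut.conj_apply, mul_inv_eq_iff_eq_mul,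
      ← mul_assoc, elY_move, mul_assoc, ← pow_add]
    congr 1
    exact elX_pow_eq (by omega)

/-- the outer automorphism group has order 2 -/
theorem card_out : Nat.card (Cfsg.Out Cfsg.Spor.ON) = 2 := by
  rw [Nat.card_eq_two_iff]
  refine ⟨(1 : Cfsg.Out Cfsg.Spor.ON), (sigmaAut : Cfsg.Out Cfsg.Spor.ON), ?_,
    Set.eq_univ_of_forall ?_⟩
  · intro h
    exact sigmaAut_not_inner ((QuotientGroup.eq_one_iff _).mp h.symm)
  · intro q
    induction q using QuotientGroup.induction_on with
    | _ α =>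
      obtain ⟨u, i, hi, hx, hy⟩ := normalise α
      have e : ((MulAut.conj u * α : MulAut Cfsg.Spor.ON) : Cfsg.Out Cfsg.Spor.ON) =
          (α : Cfsg.Out Cfsg.Spor.ON) := by
        rw [QuotientGroup.mk_mul, (QuotientGroup.eq_one_iff (N := Cfsg.Inn Cfsg.Spor.ON) (MulAut.conj u)).mpr (MonoidHom.mem_range.mpr ⟨u, rfl⟩), one_mul]
      rw [← e]
      rcases normal_form hi hx hy with h | h
      · rw [h]; exact Or.inl rfl
      · rw [h]; exact Or.inr rfl

end Cfsg.Agent.Lib.ONOut
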