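import Cfsg.Agent.Lib.ONOut.Defs

/-! Evaluated checks: `posX`, part 1. -/

namespace Cfsg.Agent.Lib.ONOut

open Cfsg.Agent.Lib.CosetTable

set_option maxRecDepth 20000
set_option Elab.async false

theorem posX_run1 : rangeAll posX 1024 0 = true := by decide +kernel

theorem posX_run2 : rangeAll posX 1024 1024 = true := by decide +kernel

theorem posX_run3 : rangeAll posX 1024 2048 = true := by decide +kernel

theorem posX_run4 : rangeAll posX 1024 3072 = true := by decide +kernel

theorem posX_run5 : rangeAll posX 1024 4096 = true := by decide +kernel

theorem posX_run6 : rangeAll posX 1024 5120 = true := by decide +kernel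

theorem posX_run7 : rangeAll posX 1024 6144 = true := by decide +kernel

theorem posX_run8 : rangeAll posX 1024 7168 = true := by decide +kernel

end Cfsg.Agent.Lib.ONOut
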