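import Cfsg.Agent.Lib.ONOut.Defs

/-! Evaluated checks: `scanX`, part 1. -/

namespace Cfsg.Agent.Lib.ONOut

open Cfsg.Agent.Lib.CosetTable

set_option maxRecDepth 20000
set_option Elab.async false

theorem scanX_run1 : rangeAll scanX 4096 0 = true := by decide +kernel

theorem scanX_run2 : rangeAll scanX 4096 4096 = true := by decide +kernel

theorem scanX_run3 : rangeAll scanX 4096 8192 = true := by decide +kernel

theorem scanX_run4 : rangeAll scanX 4096 12288 = true := by decide +kernel

theorem scanX_run5 : rangeAll scanX 4096 16384 = true := by decide +kernel

theorem scanX_run6 : rangeAll scanX 4096 20480 = true := by decide +kernel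

theorem scanX_run7 : rangeAll scanX 4096 24576 = true := by decide +kernel

theorem scanX_run8 : rangeAll scanX 4096 28672 = true := by decide +kernel

end Cfsg.Agent.Lib.ONOut
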